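import Mathlib.GroupTheory.Sylow
import Mathlib.GroupTheory.Index
import Mathlib.GroupTheory.GroupAction.Quotient
import Mathlib.Algebra.Group.End
import Mathlib.Data.Nat.Factorization.Basic
import Mathlib.Tactic
import Cfsg.Prelude.Def_HallClasses

/-!
# General lemmas on the Sylow theorem for a set of primes (for S3876, sporadic rows)

`DC π S` : every π-subgroup lies in a Hall π-subgroup, and the Hall π-subgroups are conjugate.
* `DC.of_outer` : (D) + (T) + (C) and `|Out| ≤ 2` give `DC`.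
* `DC.descend` : `DC` passes to a subgroup whose index is a π-number.
* `DC.overgroups` : if `N(T)` is a π-group (`T` Sylow), one Hall π-subgroup contains all π-overgroups of `T`.
* `DC.invariant` : invariant subsets of a Hall π-subgroup move to every π-subgroup.
-/

set_option autoImplicit false

namespace Cfsg.Agent.H543.PiBS

open Pointwise

universe u v

variable {S : Type u} [Group S]

/-- every π-subgroup lies in a Hall π-subgroup; Hall π-subgroups are conjugate. -/
structure DC (π : Set ℕ) (S : Type u) [Group S] : Prop where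
  d : ∀ K : Subgroup S, IsPiSubgroup π K → ∃ H : Subgroup S, IsPiHall π H ∧ K ≤ H
  c : ∀ H K : Subgroup S, IsPiHall π H → IsPiHall π K → ∃ g : S, K = H.map (MulAut.conj g).toMonoidHom

/-- all primes of the order lie in π -/
def PiGrp (π : Set ℕ) (S : Type u) : Prop := ∀ p : ℕ, p.Prime → p ∣ Nat.card S → p ∈ π

theorem card_map_conj (H : Subgroup S) (g : S) :
    Nat.card (H.map (MulAut.conj g).toMonoidHom) = Nat.card H :=
  Nat.card_congr (H.equivMapOfInjective _ (MulAut.conj g).injective).toEquiv.symm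

theorem map_conj_self {H : Subgroup S} {h : S} (hh : h ∈ H) :
    H.map (MulAut.conj h).toMonoidHom = H := by
  ext y
  simp only [Subgroup.mem_map, MulEquiv.coe_toMonoidHom, MulAut.conj_apply]
  constructor
  · rintro ⟨z, hz, rfl⟩
    exact H.mul_mem (H.mul_mem hh hz) (H.inv_mem hh)
  · intro hy
    exact ⟨h⁻¹ * y * h, H.mul_mem (H.mul_mem (H.inv_mem hh) hy) hh, by group⟩

theorem index_map_equiv {S' : Type v} [Group S'] (e : S ≃* S') (H : Subgroup S) :
    (H.map e.toMonoidHom).index = H.index := by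
  have := Subgroup.index_map_equiv H e
  exact this

theorem card_map_equiv {S' : Type v} [Group S'] (e : S ≃* S') (H : Subgroup S) :
    Nat.card (H.map e.toMonoidHom) = Nat.card H :=
  Nat.card_congr (H.equivMapOfInjective _ e.injective).toEquiv.symm

theorem hall_map {S' : Type v} [Group S'] {π : Set ℕ} (e : S ≃* S') {H : Subgroup S} (h : IsPiHall π H) :
    IsPiHall π (H.map e.toMonoidHom) := by
  refine ⟨fun p hp hd => h.1 p hp ?_, fun p hp hpi hd => h.2 p hp hpi ?_⟩
  · rwa [card_map_equiv] at hd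
  · rwa [index_map_equiv] at hd

theorem pi_map {S' : Type v} [Group S'] {π : Set ℕ} (f : S →* S') {H : Subgroup S} (h : IsPiSubgroup π H) :
    IsPiSubgroup π (H.map f) := by
  intro p hp hd
  exact h p hp (hd.trans (Subgroup.card_map_dvd H f))

theorem pi_mono {π : Set ℕ} {H K : Subgroup S} (hHK : H ≤ K) (h : IsPiSubgroup π K) : IsPiSubgroup π H :=
  fun p hp hd => h p hp (hd.trans (Subgroup.card_dvd_of_le hHK))

theorem pi_bot (π : Set ℕ) : IsPiSubgroup π (⊥ : Subgroup S) := by
  intro p hp hd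
  rw [Subgroup.card_bot] at hd
  exact absurd (Nat.dvd_one.mp hd) hp.one_lt.ne'

theorem hall_pi {π : Set ℕ} {H : Subgroup S} (h : IsPiHall π H) : IsPiSubgroup π H := h.1

theorem hall_coprime [Finite S] {π : Set ℕ} {H : Subgroup S} (h : IsPiHall π H) :
    Nat.Coprime (Nat.card H) H.index := by
  by_contra hn
  obtain ⟨p, hp, h1, h2⟩ := Nat.Prime.not_coprime_iff_dvd.mp hn
  exact h.2 p hp (h.1 p hp h1) h2

/-- a Hall subgroup contained in a π-subgroup equals it -/
theorem hall_eq_of_le [Finite S] {π : Set ℕ} {H K : Subgroup S} (h : IsPiHall π H) (hK : IsPiSubgroup π K)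
    (hle : H ≤ K) : H = K := by
  have h1 : H.relIndex K = 1 := by
    by_contra hne
    obtain ⟨p, hp, hd⟩ := Nat.exists_prime_and_dvd hne
    have hdK : p ∣ Nat.card K := hd.trans (by
      have := Subgroup.relIndex_dvd_card H K
      exact this)
    have hdI : p ∣ H.index := hd.trans (by
      have := Subgroup.relIndex_mul_index hle
      exact Dvd.intro _ this)
    exact h.2 p hp (hK p hp hdK) hdI
  exact le_antisymm hle (Subgroup.relIndex_eq_one.mp h1)

section dc

variable {π : Set ℕ}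

theorem DC.exists_hall (h : DC π S) : ∃ H : Subgroup S, IsPiHall π H :=
  let ⟨H, hH, _⟩ := h.d ⊥ (pi_bot π)
  ⟨H, hH⟩

/-- every π-subgroup has a conjugate in any given Hall π-subgroup -/
theorem DC.conj_le (h : DC π S) {H K : Subgroup S} (hH : IsPiHall π H) (hK : IsPiSubgroup π K) :
    ∃ g : S, K.map (MulAut.conj g).toMonoidHom ≤ H := by
  obtain ⟨L, hL, hKL⟩ := h.d K hK
  obtain ⟨g, hg⟩ := h.c L H hL hH
  exact ⟨g, hg ▸ Subgroup.map_mono hKL⟩

/-- every π-subgroup lies in a conjugate of any given Hall π-subgroup -/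
theorem DC.le_conj (h : DC π S) {H K : Subgroup S} (hH : IsPiHall π H) (hK : IsPiSubgroup π K) :
    ∃ g : S, K ≤ H.map (MulAut.conj g).toMonoidHom := by
  obtain ⟨L, hL, hKL⟩ := h.d K hK
  obtain ⟨g, hg⟩ := h.c H L hH hL
  exact ⟨g, hg ▸ hKL⟩

theorem DC.card_dvd (h : DC π S) {H K : Subgroup S} (hH : IsPiHall π H) (hK : IsPiSubgroup π K) :
    Nat.card K ∣ Nat.card H := by
  obtain ⟨g, hg⟩ := h.conj_le hH hK
  rw [← card_map_conj K g]
  exact Subgroup.card_dvd_of_le hg

theorem DC.congr {S' : Type v} [Group S'] (e : S ≃* S') (h : DC π S) : DC π S' := by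
  refine ⟨fun K hK => ?_, fun H K hH hK => ?_⟩
  · obtain ⟨H, hH, hle⟩ := h.d (K.map e.symm.toMonoidHom) (pi_map _ hK)
    refine ⟨H.map e.toMonoidHom, hall_map e hH, ?_⟩
    have := Subgroup.map_mono (f := e.toMonoidHom) hle
    rw [Subgroup.map_map] at this
    convert this
    ext x; simp
  · obtain ⟨g, hg⟩ := h.c (H.map e.symm.toMonoidHom) (K.map e.symm.toMonoidHom) (hall_map e.symm hH) (hall_map e.symm hK)
    refine ⟨e g, ?_⟩
    have h1 := congrArg (Subgroup.map e.toMonoidHom) hg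
    rw [Subgroup.map_map, Subgroup.map_map, Subgroup.map_map] at h1
    have h2 : K.map (e.toMonoidHom.comp e.symm.toMonoidHom) = K := by
      ext x; simp
    rw [h2] at h1
    rw [h1]
    congr 1
    ext x; simp

/-- in a finite group with `DC`, `IsDPiGroup` holds -/
theorem DC.isDPi [Finite S] (h : DC π S) : IsDPiGroup π S := by
  intro H K hH hK
  obtain ⟨L, hL, hHL⟩ := h.d H hH.prop
  obtain ⟨M, hM, hKM⟩ := h.d K hK.prop
  have e1 : H = L := le_antisymm hHL (hH.le_of_ge hL.1 hHL)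
  have e2 : K = M := le_antisymm hKM (hK.le_of_ge hM.1 hKM)
  subst e1; subst e2
  exact h.c _ _ hL hM

end dc

section outer

/-- **(G1)**: (D), (T) and (C) at the prime 2 give `DC` when `|Aut S : Inn S| ≤ 2`. -/
theorem DC.of_outer [Finite S] {π : Set ℕ}
    (hout : (MulAut.conj : S →* MulAut S).range.index ≤ 2)
    (hd : ∀ K : Subgroup S, IsPiSubgroup π K → ∃ H : Subgroup S, IsPiHall π H ∧ K ≤ H)
    (ht : ∀ H K : Subgroup S, IsPiHall π H → IsPiHall π K → ∃ a : MulAut S, K = H.map a.toMonoidHom)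
    (hc : ¬ 2 ∣ Nat.card {H : Subgroup S // IsPiHall π H}) : DC π S := by
  classical
  refine ⟨hd, ?_⟩
  by_contra hcon
  push Not at hcon
  obtain ⟨H0, K0, hH0, hK0, hne⟩ := hcon
  obtain ⟨a, ha⟩ := ht H0 K0 hH0 hK0
  set I := (MulAut.conj : S →* MulAut S).range with hI
  have haI : a ∉ I := by
    rintro ⟨g, hg⟩
    exact hne g (by rw [ha, ← hg])
  have hidx : I.index = 2 := by
    have h0 : I.index ≠ 0 := Subgroup.index_ne_zero_of_finite
    have h1 : I.index ≠ 1 := fun h => haI (by rw [Subgroup.index_eq_one.mp h]; trivial)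
    omega
  have hmul : ∀ x y : MulAut S, x * y ∈ I ↔ (x ∈ I ↔ y ∈ I) := fun x y =>
    Subgroup.mul_mem_iff_of_index_two hidx
  -- the set of Hall subgroups conjugate to H0
  let Ω := {H : Subgroup S // IsPiHall π H}
  let P : Ω → Prop := fun H => ∃ b ∈ I, H.1 = H0.map (b : MulAut S).toMonoidHom
  have hP : ∀ (b : MulAut S) (_ : b ∉ I) (H : Subgroup S) (_ : IsPiHall π H),
      H = H0.map b.toMonoidHom → ¬ ∃ c ∈ I, H = H0.map (c : MulAut S).toMonoidHom := by
    rintro b hb H hH e1 ⟨c, hc', e2⟩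
    -- then K0 = a H0, with a = (a b⁻¹) b
    have hmem : a * b⁻¹ * c ∈ I := by
      rw [hmul, hmul]
      have : b⁻¹ ∉ I := fun h => hb (by simpa using I.inv_mem h)
      tauto
    obtain ⟨g, hg⟩ := hmem
    apply hne g
    rw [hg]
    have e3 : H0.map (c : MulAut S).toMonoidHom = H0.map b.toMonoidHom := e2.symm.trans e1
    have e4 : (a * b⁻¹ * c : MulAut S).toMonoidHom = (a * b⁻¹ : MulAut S).toMonoidHom.comp c.toMonoidHom := rfl
    have e5 : (a : MulAut S).toMonoidHom = (a * b⁻¹ : MulAut S).toMonoidHom.comp b.toMonoidHom := by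
      ext x; simp
    rw [ha, e4, ← Subgroup.map_map, e3, Subgroup.map_map, ← e5]
  -- the bijection
  have hcard : Nat.card {H : Ω // P H} = Nat.card {H : Ω // ¬ P H} := by
    refine Nat.card_congr (Equiv.ofBijective
      (fun H => ⟨⟨H.1.1.map a.toMonoidHom, hall_map a H.1.2⟩, ?_⟩) ⟨?_, ?_⟩)
    · obtain ⟨b, hb, e⟩ := H.2
      refine hP (a * b) ?_ _ (hall_map a H.1.2) ?_
      · rw [hmul]; tauto
      · show H.1.1.map a.toMonoidHom = _
        rw [e, Subgroup.map_map]; rfl
    · rintro ⟨⟨H, hH⟩, hPH⟩ ⟨⟨K, hK⟩, hPK⟩ e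
      have e' : H.map a.toMonoidHom = K.map a.toMonoidHom := congrArg (fun z => z.1.1) e
      have e'' : H = K := Subgroup.map_injective (f := a.toMonoidHom) a.injective e'
      subst e''
      rfl
    · rintro ⟨⟨K, hK⟩, hPK⟩
      obtain ⟨b, hb⟩ := ht H0 K hH0 hK
      have hbI : b ∉ I := fun h => hPK ⟨b, h, hb⟩
      refine ⟨⟨⟨K.map (a⁻¹ : MulAut S).toMonoidHom, hall_map _ hK⟩, ⟨a⁻¹ * b, ?_, ?_⟩⟩, ?_⟩
      · rw [hmul]
        have : a⁻¹ ∉ I := fun h => haI (by simpa using I.inv_mem h)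
        tauto
      · show K.map (a⁻¹ : MulAut S).toMonoidHom = _
        rw [hb, Subgroup.map_map]; rfl
      · apply Subtype.ext
        apply Subtype.ext
        show (K.map (a⁻¹ : MulAut S).toMonoidHom).map a.toMonoidHom = K
        rw [Subgroup.map_map]
        have : (a : MulAut S).toMonoidHom.comp (a⁻¹ : MulAut S).toMonoidHom = MonoidHom.id S := by
          ext x; simp
        rw [this, Subgroup.map_id]
  apply hc
  have htot : Nat.card Ω = Nat.card {H : Ω // P H} + Nat.card {H : Ω // ¬ P H} := by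
    rw [← Nat.card_sum]
    exact Nat.card_congr (Equiv.sumCompl P).symm
  show 2 ∣ Nat.card Ω
  rw [htot, ← hcard]
  exact ⟨_, (two_mul _).symm⟩

end outer

section descend

variable {π : Set ℕ}

/-- if the index of `U` is a π-number then the π'-part of the index is seen in `U` -/
theorem hall_relIndex [Finite S] {H U : Subgroup S} (hH : IsPiHall π H)
    (hU : ∀ p : ℕ, p.Prime → p ∣ U.index → p ∈ π) : H.relIndex U = H.index := by
  have hcop : Nat.Coprime H.index U.index := by
    by_contra hn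
    obtain ⟨p, hp, h1, h2⟩ := Nat.Prime.not_coprime_iff_dvd.mp hn
    exact hH.2 p hp (hU p hp h2) h1
  have e1 : (H ⊓ U).relIndex U * U.index = (H ⊓ U).index := Subgroup.relIndex_mul_index inf_le_right
  have e2 : (H ⊓ U).relIndex H * H.index = (H ⊓ U).index := Subgroup.relIndex_mul_index inf_le_left
  rw [Subgroup.inf_relIndex_right] at e1
  have hdvd : H.index ∣ H.relIndex U * U.index := by rw [e1, ← e2]; exact Dvd.intro_left _ rfl
  have hd2 : H.index ∣ H.relIndex U := hcop.dvd_of_dvd_mul_right hdvd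
  have hpos : 0 < H.relIndex U := Nat.pos_of_ne_zero (show (H.subgroupOf U).index ≠ 0 from Subgroup.index_ne_zero_of_finite)
  have hle : H.relIndex U ≤ H.index := by
    have := Subgroup.relIndex_le_of_le_right (H := H) (K := U) (L := ⊤) le_top
      (by rw [Subgroup.relIndex_top_right]; exact Subgroup.index_ne_zero_of_finite)
    rwa [Subgroup.relIndex_top_right] at this
  exact le_antisymm hle (Nat.le_of_dvd hpos hd2)

theorem hall_subgroupOf [Finite S] {H U : Subgroup S} (hH : IsPiHall π H)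
    (hU : ∀ p : ℕ, p.Prime → p ∣ U.index → p ∈ π) : IsPiHall π (H.subgroupOf U) := by
  refine ⟨fun p hp hd => hH.1 p hp (hd.trans ?_), fun p hp hpi hd => hH.2 p hp hpi ?_⟩
  · have : Nat.card (H.subgroupOf U) = Nat.card ((H ⊓ U : Subgroup S)) := by
      rw [← Subgroup.inf_subgroupOf_right]
      exact Nat.card_congr (Subgroup.subgroupOfEquivOfLe inf_le_right).toEquiv
    rw [this]
    exact Subgroup.card_dvd_of_le inf_le_left
  · have : (H.subgroupOf U).index = H.relIndex U := rfl
    rw [this, hall_relIndex hH hU] at hd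
    exact hd

/-- `S = U H` for a Hall π-subgroup `H` and a subgroup `U` of π-index -/
theorem exists_mul [Finite S] {H U : Subgroup S} (hH : IsPiHall π H)
    (hU : ∀ p : ℕ, p.Prime → p ∣ U.index → p ∈ π) (g : S) : ∃ u ∈ U, ∃ h ∈ H, g = u * h := by
  have hst : MulAction.stabilizer U ((1 : S) : S ⧸ H) = H.subgroupOf U := by
    ext u
    rw [MulAction.mem_stabilizer_iff, Subgroup.mem_subgroupOf]
    show (((u : S) * 1 : S) : S ⧸ H) = ((1 : S) : S ⧸ H) ↔ _
    rw [mul_one, eq_comm, QuotientGroup.eq]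
    simp
  have hcard : (MulAction.orbit U ((1 : S) : S ⧸ H)).ncard = Nat.card (S ⧸ H) := by
    rw [← MulAction.index_stabilizer, hst]
    exact hall_relIndex hH hU
  have huniv : MulAction.orbit U ((1 : S) : S ⧸ H) = Set.univ := by
    apply Set.eq_of_subset_of_ncard_le (Set.subset_univ _)
    rw [hcard, Set.ncard_univ]
  have hg : (g : S ⧸ H) ∈ MulAction.orbit U ((1 : S) : S ⧸ H) := by rw [huniv]; trivial
  obtain ⟨u, hu⟩ := hg
  have hu' : (((u : S) * 1 : S) : S ⧸ H) = (g : S ⧸ H) := hu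
  rw [mul_one, QuotientGroup.eq] at hu'
  exact ⟨u, u.2, _, hu', by group⟩

/-- **Descent**: `DC` passes to subgroups of π-index. -/
theorem DC.descend [Finite S] (h : DC π S) (U : Subgroup S)
    (hU : ∀ p : ℕ, p.Prime → p ∣ U.index → p ∈ π) : DC π U := by
  have key : ∀ K : Subgroup U, IsPiSubgroup π K →
      ∃ H : Subgroup S, IsPiHall π H ∧ K ≤ H.subgroupOf U := by
    intro K hK
    obtain ⟨H, hH, hle⟩ := h.d (K.map U.subtype) (pi_map _ hK)
    refine ⟨H, hH, fun k hk => ?_⟩
    exact hle ⟨k, hk, rfl⟩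
  refine ⟨fun K hK => ?_, fun K L hK hL => ?_⟩
  · obtain ⟨H, hH, hle⟩ := key K hK
    exact ⟨_, hall_subgroupOf hH hU, hle⟩
  · obtain ⟨H, hH, hle⟩ := key K hK.1
    obtain ⟨M, hM, hle2⟩ := key L hL.1
    have e1 : K = H.subgroupOf U := hall_eq_of_le hK (hall_subgroupOf hH hU).1 hle
    have e2 : L = M.subgroupOf U := hall_eq_of_le hL (hall_subgroupOf hM hU).1 hle2
    obtain ⟨g, hg⟩ := h.c H M hH hM
    obtain ⟨u, hu, x, hx, rfl⟩ := exists_mul hH hU g
    refine ⟨⟨u, hu⟩, ?_⟩
    subst e1; subst e2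
    have e3 : M = H.map (MulAut.conj u).toMonoidHom := by
      rw [hg]
      ext y
      simp only [Subgroup.mem_map, MulEquiv.coe_toMonoidHom, MulAut.conj_apply]
      constructor
      · rintro ⟨z, hz, rfl⟩
        exact ⟨x * z * x⁻¹, H.mul_mem (H.mul_mem hx hz) (H.inv_mem hx), by group⟩
      · rintro ⟨z, hz, rfl⟩
        exact ⟨x⁻¹ * z * x, H.mul_mem (H.mul_mem (H.inv_mem hx) hz) hx, by group⟩
    ext y
    rw [e3]
    simp only [Subgroup.mem_subgroupOf, Subgroup.mem_map, MulEquiv.coe_toMonoidHom, MulAut.conj_apply]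
    constructor
    · rintro ⟨z, hz, hy⟩
      refine ⟨⟨z, ?_⟩, hz, Subtype.ext hy⟩
      have : z = u⁻¹ * y * u := by rw [← hy]; group
      rw [this]
      exact U.mul_mem (U.mul_mem (U.inv_mem hu) y.2) hu
    · rintro ⟨z, hz, hy⟩
      exact ⟨z, hz, by rw [← hy]; rfl⟩

/-- the primes of `S` are those of `U` and of its index -/
theorem piGrp_of_subgroup [Finite S] (U : Subgroup S) (hU : ∀ p : ℕ, p.Prime → p ∣ U.index → p ∈ π)
    (h : PiGrp π U) : PiGrp π S := by
  intro p hp hd
  rw [← Subgroup.card_mul_index U] at hd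
  rcases (hp.dvd_mul).mp hd with h1 | h1
  · exact h p hp h1
  · exact hU p hp h1

/-- **Descent, closed form**: if every `DC π`-subgroup isomorphic to `U` is a π-group, so is `S`. -/
theorem DC.piGrp_of_descend [Finite S] (h : DC π S) (U : Subgroup S)
    (hU : ∀ p : ℕ, p.Prime → p ∣ U.index → p ∈ π) (hrow : DC π U → PiGrp π U) : PiGrp π S :=
  piGrp_of_subgroup U hU (hrow (h.descend U hU))

end descend

section overgroups

variable {π : Set ℕ}

/-- **(G3)**: if the normaliser of a Sylow subgroup `T` is a π-group, there is one Hall π-subgroup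
containing every π-subgroup that contains `T`. -/
theorem DC.overgroups [Finite S] (h : DC π S) {p : ℕ} [Fact p.Prime] (T : Sylow p S)
    (hN : IsPiSubgroup π (Subgroup.normalizer ((T : Subgroup S) : Set S))) :
    ∃ H : Subgroup S, IsPiHall π H ∧ Subgroup.normalizer ((T : Subgroup S) : Set S) ≤ H ∧
      ∀ X : Subgroup S, IsPiSubgroup π X → (T : Subgroup S) ≤ X → X ≤ H := by
  obtain ⟨H, hH, hNH⟩ := h.d _ hN
  refine ⟨H, hH, hNH, fun X hX hTX => ?_⟩
  obtain ⟨M, hM, hXM⟩ := h.d X hX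
  obtain ⟨g, hg⟩ := h.c H M hH hM
  -- T and gTg⁻¹ are Sylow subgroups of M
  have hT1 : (T : Subgroup S) ≤ M := hTX.trans hXM
  have hT2 : ((g • T : Sylow p S) : Subgroup S) ≤ M := by
    rw [Sylow.coe_subgroup_smul, hg]
    exact Subgroup.map_mono (Subgroup.le_normalizer.trans hNH)
  obtain ⟨m, hm⟩ := MulAction.exists_smul_eq M ((g • T).subtype hT2) (T.subtype hT1)
  have hm2 : ((m : S) • (g • T : Sylow p S)) = T := by
    have := Sylow.smul_subtype hT2 m
    rw [Sylow.smul_subtype] at hm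
    exact Sylow.subtype_injective hm
  rw [← mul_smul] at hm2
  have hmem : (m : S) * g ∈ Subgroup.normalizer ((T : Subgroup S) : Set S) :=
    Sylow.smul_eq_iff_mem_normalizer.mp hm2
  have hmgH : (m : S) * g ∈ H := hNH hmem
  have key : ∀ m' : S, m' ∈ M → m' * g ∈ H → M = H := by
    intro m' hm' hmg'
    have e1 : M.map (MulAut.conj m').toMonoidHom = M := map_conj_self hm'
    have e2 : H.map (MulAut.conj (m' * g)).toMonoidHom = H := map_conj_self hmg'
    have e3 : (H.map (MulAut.conj g).toMonoidHom).map (MulAut.conj m').toMonoidHom =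
        H.map (MulAut.conj (m' * g)).toMonoidHom := by
      rw [Subgroup.map_map]
      congr 1
      ext x
      simp [mul_assoc]
    rw [← e1, hg, e3, e2]
  exact (key m m.2 hmgH) ▸ hXM

/-- the same for `N(T) = T`-type situations where only the π-overgroups are wanted: all of them
generate a π-group. -/
theorem DC.sSup_overgroups [Finite S] (h : DC π S) {p : ℕ} [Fact p.Prime] (T : Sylow p S)
    (hN : IsPiSubgroup π (Subgroup.normalizer ((T : Subgroup S) : Set S))) :
    IsPiSubgroup π (sSup {X : Subgroup S | IsPiSubgroup π X ∧ (T : Subgroup S) ≤ X}) := by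
  obtain ⟨H, hH, -, hX⟩ := h.overgroups T hN
  exact pi_mono (sSup_le fun X hX' => hX X hX'.1 hX'.2) hH.1

/-- two π-overgroups of `T` generate a π-group -/
theorem DC.sup_overgroups [Finite S] (h : DC π S) {p : ℕ} [Fact p.Prime] (T : Sylow p S)
    (hN : IsPiSubgroup π (Subgroup.normalizer ((T : Subgroup S) : Set S))) {X Y : Subgroup S}
    (hX : IsPiSubgroup π X) (hY : IsPiSubgroup π Y) (hTX : (T : Subgroup S) ≤ X) (hTY : (T : Subgroup S) ≤ Y) :
    IsPiSubgroup π (X ⊔ Y) := by
  obtain ⟨H, hH, -, hov⟩ := h.overgroups T hN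
  exact pi_mono (sup_le (hov X hX hTX) (hov Y hY hTY)) hH.1

end overgroups

section orbits

variable {π : Set ℕ} {Ω : Type v} [MulAction S Ω]

/-- `K` stabilises a `k`-subset of `Ω`. -/
def FixesSet (K : Subgroup S) (Δ : Set Ω) : Prop := ∀ g ∈ K, ∀ x ∈ Δ, g • x ∈ Δ

theorem FixesSet.mono {K L : Subgroup S} {Δ : Set Ω} (h : FixesSet L Δ) (hKL : K ≤ L) : FixesSet K Δ :=
  fun g hg x hx => h g (hKL hg) x hx

theorem FixesSet.compl {K : Subgroup S} {Δ : Set Ω} (h : FixesSet K Δ) : FixesSet K Δᶜ := by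
  intro g hg x hx hgx
  apply hx
  have := h g⁻¹ (K.inv_mem hg) _ hgx
  simpa using this

/-- If `K` is a π-subgroup and some Hall π-subgroup fixes a subset `Δ`, then `K` fixes a translate of `Δ`. -/
theorem DC.invariant (h : DC π S) {H K : Subgroup S} (hH : IsPiHall π H) (hK : IsPiSubgroup π K)
    {Δ : Set Ω} (hΔ : FixesSet H Δ) : ∃ g : S, FixesSet K (g • Δ) := by
  obtain ⟨g, hg⟩ := h.le_conj hH hK
  refine ⟨g, fun k hk x hx => ?_⟩
  obtain ⟨z, hz, rfl⟩ := hg hk
  obtain ⟨y, hy, rfl⟩ := hx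
  refine ⟨z • y, hΔ z hz y hy, ?_⟩
  simp [smul_smul]

theorem DC.invariant_card (h : DC π S) {H K : Subgroup S} (hH : IsPiHall π H) (hK : IsPiSubgroup π K)
    {Δ : Set Ω} (hΔ : FixesSet H Δ) : ∃ Δ' : Set Ω, Δ'.ncard = Δ.ncard ∧ FixesSet K Δ' := by
  obtain ⟨g, hg⟩ := h.invariant hH hK hΔ
  exact ⟨g • Δ, Set.ncard_smul_set g Δ, hg⟩

/-- a Hall π-subgroup which is transitive on `Ω` forces the primes of `|Ω|` into π -/
theorem mem_of_orbit [Finite S] {H : Subgroup S} (hH : IsPiHall π H) (x : Ω)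
    {p : ℕ} (hp : p.Prime) (hd : p ∣ (MulAction.orbit H x).ncard) : p ∈ π := by
  apply hH.1 p hp
  refine hd.trans ?_
  rw [← MulAction.index_stabilizer]
  exact Subgroup.index_dvd_card _

theorem fixesSet_orbit (H : Subgroup S) (x : Ω) : FixesSet H (MulAction.orbit H x) := by
  rintro g hg y ⟨h, rfl⟩
  exact ⟨⟨g, hg⟩ * h, by simp [mul_smul]⟩

/-- If the only `H`-invariant subsets of `Ω` are `∅` and everything, then the primes of `|Ω|` lie in π. -/
theorem mem_of_no_invariant [Finite S] {H : Subgroup S} (hH : IsPiHall π H) [Nonempty Ω]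
    (hno : ∀ Δ : Set Ω, FixesSet H Δ → Δ.Nonempty → Δ = Set.univ)
    {p : ℕ} (hp : p.Prime) (hd : p ∣ Nat.card Ω) : p ∈ π := by
  obtain ⟨x⟩ := ‹Nonempty Ω›
  have h1 := hno _ (fixesSet_orbit H x) ⟨x, MulAction.mem_orbit_self x⟩
  apply mem_of_orbit hH x hp
  rw [h1, Set.ncard_univ]
  exact hd

end orbits

end Cfsg.Agent.H543.PiBS
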