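import Cfsg.Agent.H543.PiBS.Tools
import Cfsg.Agent.FooteOdd.SporMEleven
import Cfsg.Agent.S0434
import Cfsg.Agent.S0435

/-!
# S3876, sporadic rows with `2, 3 ∈ π`: `M11`, `M12`
-/

set_option autoImplicit false

namespace Cfsg.Agent.H543.PiBS

open Subgroup Cfsg

universe u

theorem isPi_of_card {S : Type u} [Group S] {π : Set ℕ} {K : Subgroup S} {m a b : ℕ} (h2 : 2 ∈ π) (h3 : 3 ∈ π)
    (hK : Nat.card K = m) (hm : m = 2 ^ a * 3 ^ b) : IsPiSubgroup π K := by
  intro p hp hd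
  rw [hK, hm] at hd
  rcases (hp.dvd_mul).mp hd with h | h
  · rw [(Nat.prime_dvd_prime_iff_eq hp Nat.prime_two).mp (hp.dvd_of_dvd_pow h)]; exact h2
  · rw [(Nat.prime_dvd_prime_iff_eq hp Nat.prime_three).mp (hp.dvd_of_dvd_pow h)]; exact h3

/-- a group with a Hall π-subgroup of index one is a π-group -/
theorem piGrp_of_card {S : Type u} [Group S] [Finite S] {π : Set ℕ} {H : Subgroup S} (hH : IsPiHall π H)
    (h : Nat.card H = Nat.card S) : PiGrp π S := by
  intro p hp hd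
  exact hH.1 p hp (by rw [h]; exact hd)

namespace M11

open Cfsg.Agent.FooteOdd.SporMEleven

instance simple_M11 : IsSimpleGroup Spor.M11 := simple

theorem isM11 : IsM11 Spor.M11 := ⟨simple, card⟩

theorem T_cube : eT * eT * eT = 1 := by
  apply ext11
  decide +kernel

theorem W_comm : eW * eX = eX * eW := by
  apply ext11
  decide +kernel

theorem T_comm : eT * eX = eX * eT := by
  apply ext11
  decide +kernel

theorem X_sq : eX * eX = 1 := by
  apply ext11
  decide +kernel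

theorem X_ne : eX ≠ 1 := by
  intro h
  have h1 : ∀ p : GolayPt, eX.1 p = (1 : Spor.M11).1 p := fun p => by rw [h]
  exact absurd h1 (by decide +kernel)

theorem TW_four : (eT * (eW * eT * eW)) ^ 4 = 1 := by
  apply ext11
  decide +kernel

theorem TW_ne : eT * (eW * eT * eW) ≠ 1 := by
  intro h
  have h1 : ∀ p : GolayPt, (eT * (eW * eT * eW)).1 p = (1 : Spor.M11).1 p := fun p => by rw [h]
  exact absurd h1 (by decide +kernel)

theorem TW_pow (k : ℕ) : (eT * (eW * eT * eW)) ^ 3 ^ k ≠ 1 := by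
  intro h
  have h4 : orderOf (eT * (eW * eT * eW)) ∣ 2 ^ 2 := orderOf_dvd_of_pow_eq_one TW_four
  have h3 : orderOf (eT * (eW * eT * eW)) ∣ 3 ^ k := orderOf_dvd_of_pow_eq_one h
  have : orderOf (eT * (eW * eT * eW)) ∣ 1 := by
    have hc : Nat.Coprime (2 ^ 2) (3 ^ k) := Nat.Coprime.pow _ _ (by norm_num)
    rw [← hc]
    exact Nat.dvd_gcd h4 h3
  exact TW_ne (orderOf_eq_one_iff.mp (Nat.dvd_one.mp this))

/-- **`M11`, `2, 3 ∈ π`** -/
theorem model {π : Set ℕ} (h2 : 2 ∈ π) (h3 : 3 ∈ π) (hD : DC π Spor.M11) : PiGrp π Spor.M11 := by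
  have : Fact (Nat.Prime 3) := ⟨Nat.prime_three⟩
  have : Finite Spor.M11 := Nat.finite_of_card_ne_zero (by rw [card]; norm_num)
  obtain ⟨H, hH⟩ := hD.exists_hall
  obtain ⟨P⟩ := (inferInstance : Nonempty (Sylow 3 Spor.M11))
  have hN := S0434.result isM11 P
  have hNpi : IsPiSubgroup π (normalizer ((P : Subgroup Spor.M11) : Set Spor.M11)) :=
    isPi_of_card (a := 4) (b := 2) h2 h3 hN (by norm_num)
  have hdvd : 144 ∣ Nat.card H := by rw [← hN]; exact hD.card_dvd hH hNpi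
  have hdvd2 : Nat.card H ∣ 7920 := by rw [← card]; exact H.card_subgroup_dvd_card
  by_cases hall : Nat.card H = 7920
  · exact piGrp_of_card hH (by rw [hall, card])
  exfalso
  have hC : Nat.card (centralizer ({eX} : Set Spor.M11)) = 48 := by
    refine S0435.result isM11 eX ?_
    have : Fact (Nat.Prime 2) := ⟨Nat.prime_two⟩
    exact orderOf_eq_prime (by rw [pow_two]; exact X_sq) X_ne
  have hCpi : IsPiSubgroup π (centralizer ({eX} : Set Spor.M11)) :=
    isPi_of_card (a := 4) (b := 1) h2 h3 hC (by norm_num)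
  have hT : eT ∈ centralizer ({eX} : Set Spor.M11) := mem_centralizer_singleton_iff.mpr T_comm
  have hW : eW ∈ centralizer ({eX} : Set Spor.M11) := mem_centralizer_singleton_iff.mpr W_comm
  have hTT : eT ^ 3 = 1 := by rw [pow_succ, pow_two]; exact T_cube
  have hWi : eW = eW⁻¹ := by rw [eq_inv_iff_mul_eq_one]; exact W_sq
  refine false_of_mul hD hNpi P le_normalizer le_rfl hH ?_ hCpi hT (mul_mem (mul_mem hW hT) hW) ⟨1, by simpa using hTT⟩
    ⟨1, ?_⟩ (fun ⟨k, hk⟩ => TW_pow k hk)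
  · rw [hN]
    intro d hd hd1
    obtain ⟨c, hc⟩ := hdvd
    rw [hc] at hdvd2 hall hd
    have h55 : c ∣ 55 := by
      have : 144 * c ∣ 144 * 55 := hdvd2
      exact Nat.dvd_of_mul_dvd_mul_left (by norm_num) this
    have hdc : d ∣ c := by
      have : 144 * d ∣ 144 * c := by rw [mul_comm 144 d]; exact hd
      exact Nat.dvd_of_mul_dvd_mul_left (by norm_num) this
    have hcl : c ≤ 55 := Nat.le_of_dvd (by norm_num) h55
    have hdl : d ≤ 55 := Nat.le_of_dvd (by norm_num) (hdc.trans h55)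
    have hc55 : c ≠ 55 := fun h => hall (by rw [h])
    have hd55 : d ∣ 55 := hdc.trans h55
    have key : ∀ c d : Fin 56, (c : ℕ) ∣ 55 → (d : ℕ) ∣ c → (c : ℕ) ≠ 55 → (d : ℕ) % 3 = 1 → (d : ℕ) = 1 := by
      decide +kernel
    exact key ⟨c, by omega⟩ ⟨d, by omega⟩ h55 hdc hc55 hd1
  · have e : eW * eT * eW = eW * eT * eW⁻¹ := by rw [← hWi]
    rw [pow_one, e, conj_pow, hTT, mul_one, mul_inv_cancel]

end M11

/-! ### `M12` -/

theorem m12_index : (Spor.M11.subgroupOf Spor.M12).index = 12 := by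
  have h1 := (Spor.M11.subgroupOf Spor.M12).card_mul_index
  have h2 : Nat.card (Spor.M11.subgroupOf Spor.M12) = 7920 := by
    rw [← Cfsg.Agent.FooteOdd.SporMEleven.card]
    exact Nat.card_congr (Subgroup.subgroupOfEquivOfLe (inf_le_left : Spor.M11 ≤ Spor.M12)).toEquiv
  rw [h2, Cfsg.Agent.MTwelveType.SylowModel.card_M12] at h1
  omega

theorem M12_model {π : Set ℕ} (h2 : 2 ∈ π) (h3 : 3 ∈ π) (hD : DC π Spor.M12) : PiGrp π Spor.M12 := by
  have : Finite Spor.M12 :=
    Nat.finite_of_card_ne_zero (by rw [Cfsg.Agent.MTwelveType.SylowModel.card_M12]; norm_num)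
  refine hD.piGrp_of_descend (Spor.M11.subgroupOf Spor.M12) ?_ fun hU => ?_
  · rw [m12_index]
    intro p hp hd
    have h12 : (12 : ℕ) = 2 ^ 2 * 3 := by norm_num
    rw [h12] at hd
    rcases (hp.dvd_mul).mp hd with h | h
    · rw [(Nat.prime_dvd_prime_iff_eq hp Nat.prime_two).mp (hp.dvd_of_dvd_pow h)]; exact h2
    · rw [(Nat.prime_dvd_prime_iff_eq hp Nat.prime_three).mp h]; exact h3
  · have e : ↥(Spor.M11.subgroupOf Spor.M12) ≃* ↥Spor.M11 := Subgroup.subgroupOfEquivOfLe inf_le_left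
    have h1 := M11.model h2 h3 (hU.congr e)
    intro p hp hd
    exact h1 p hp (by rw [← Nat.card_congr e.toEquiv]; exact hd)

theorem row_M12 {S : Type*} [Group S] [Finite S] (h : Spor.IsoM12 S) {π : Set ℕ} (h2 : 2 ∈ π) (h3 : 3 ∈ π)
    (hD : DC π S) : PiGrp π S := by
  obtain ⟨e⟩ := h
  have h1 := M12_model h2 h3 (hD.congr e)
  intro p hp hd
  exact h1 p hp (by rw [← Nat.card_congr e.toEquiv]; exact hd)

theorem row_M11 {S : Type*} [Group S] [Finite S] (h : Spor.IsoM11 S) {π : Set ℕ} (h2 : 2 ∈ π) (h3 : 3 ∈ π)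
    (hD : DC π S) : PiGrp π S := by
  obtain ⟨e⟩ := h
  have h1 := M11.model h2 h3 (hD.congr e)
  intro p hp hd
  exact h1 p hp (by rw [← Nat.card_congr e.toEquiv]; exact hd)

end Cfsg.Agent.H543.PiBS
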