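import Cfsg.Agent.H543.PiBS.Tools
import Cfsg.Agent.H543.PiBS.M11
import Cfsg.Agent.H982.PiJ
import Cfsg.Agent.H305.SepJ1
import Cfsg.Agent.S0496

/-!
# S3876, sporadic rows with `2, 3 ∈ π`: `J1`
-/

set_option autoImplicit false
set_option linter.style.haveILetI false

namespace Cfsg.Agent.H543.PiBS.JOne

open Subgroup Cfsg Cfsg.Agent.H305.SepJ1 Cfsg.Agent.H940.Eng
open scoped Pointwise

theorem fact (p : ℕ) (h : p.Prime) : Fact p.Prime := ⟨h⟩

theorem cardG : Nat.card G = 175560 := card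

/-- all divisors of `7315` -/
theorem mem_div {n : ℕ} (h : n ∣ 7315) : n ∈ [1, 19, 11, 209, 7, 133, 77, 1463, 5, 95, 55, 1045, 35, 665, 385, 7315] := by
  have h1 : n ∣ Cfsg.Agent.OrdDiv.prodl [(5, 1), (7, 1), (11, 1), (19, 1)] := by
    have : Cfsg.Agent.OrdDiv.prodl [(5, 1), (7, 1), (11, 1), (19, 1)] = 7315 := by decide +kernel
    rw [this]; exact h
  have h2 := mem_divsT (l := [(5, 1), (7, 1), (11, 1), (19, 1)]) (by
    intro x hx
    simp only [List.mem_cons, List.not_mem_nil, or_false] at hx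
    rcases hx with rfl | rfl | rfl | rfl <;> norm_num) h1
  have h3 : divsT [(5, 1), (7, 1), (11, 1), (19, 1)] =
      [1, 19, 11, 209, 7, 133, 77, 1463, 5, 95, 55, 1045, 35, 665, 385, 7315] := by decide +kernel
  rwa [h3] at h2

theorem index_dvd {π : Set ℕ} (h2 : 2 ∈ π) (h3 : 3 ∈ π) {H : Subgroup G} (hH : IsPiHall π H) : H.index ∣ 7315 := by
  haveI := fin
  have h1 : H.index ∣ 7315 * 24 := by
    have := H.index_dvd_card
    rw [cardG] at this
    exact this
  refine Nat.Coprime.dvd_of_dvd_mul_right ?_ h1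
  have e : (24 : ℕ) = 2 ^ 3 * 3 := by norm_num
  rw [e]
  refine Nat.Coprime.mul_right (Nat.Coprime.pow_right 3 ?_) ?_
  · exact ((Nat.Prime.coprime_iff_not_dvd Nat.prime_two).mpr (hH.2 2 Nat.prime_two h2)).symm
  · exact ((Nat.Prime.coprime_iff_not_dvd Nat.prime_three).mpr (hH.2 3 Nat.prime_three h3)).symm

theorem index_eq {π : Set ℕ} (hD : DC π G) {H K : Subgroup G} (hH : IsPiHall π H) (hK : IsPiHall π K) :
    H.index = K.index := by
  obtain ⟨g, rfl⟩ := hD.c H K hH hK
  exact (index_map_equiv _ _).symm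

/-- the sieve at an exact prime -/
theorem sieve_exact {π : Set ℕ} (hD : DC π G) {r m : ℕ} (hr : r.Prime) (hrd : r ∣ 175560) (hr2 : ¬ r ^ 2 ∣ 175560)
    (hN : ∀ R : Subgroup G, Nat.card R = r → Nat.card (normalizer (R : Set G)) = m)
    (hm : ∀ p : ℕ, p.Prime → p ∣ m → p ∈ π) {H : Subgroup G} (hH : IsPiHall π H) : H.index % r = 1 % r := by
  haveI := fin
  haveI := Fact.mk hr
  obtain ⟨R⟩ := (inferInstance : Nonempty (Sylow r G))
  have hRc : Nat.card R = r := by
    have h1 := R.card_eq_multiplicity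
    have h3 : (Nat.card G).factorization r = 1 := by
      rw [cardG]
      refine le_antisymm ?_ ((hr.dvd_iff_one_le_factorization (by norm_num)).1 hrd)
      by_contra hlt
      push Not at hlt
      exact hr2 ((hr.pow_dvd_iff_le_factorization (by norm_num)).2 hlt)
    rw [h1, h3, pow_one]
  obtain ⟨K, hK, -, hKi⟩ := Cfsg.Agent.H982.PiJ.sieve hD R (fun p hp hd => hm p hp (by
    rw [hN (R : Subgroup G) hRc] at hd; exact hd))
  rw [index_eq hD hH hK]
  exact hKi

/-! ### no subgroup of order 264 -/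

theorem sub_bounds {H : Subgroup G} {R : Subgroup H} (hR : Nat.card R = 11) :
    Nat.card (normalizer (R : Set H)) ∣ 110 ∧ Nat.card (centralizer (R : Set H)) ∣ 11 := by
  haveI := fin
  set R' : Subgroup G := R.map H.subtype with hR'
  have hR'c : Nat.card R' = 11 := by rw [hR', card_map_of_injective H.subtype_injective, hR]
  obtain ⟨hC, hN⟩ := cn11 hR'c
  constructor
  · refine dvd_trans ?_ (dvd_of_eq hN)
    have h3 : (normalizer (R : Set H)).map H.subtype ≤ normalizer (R' : Set G) := by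
      rintro _ ⟨a, ha, rfl⟩
      rw [mem_normalizer_iff]
      intro z
      constructor
      · rintro ⟨w, hw, rfl⟩
        exact ⟨_, (mem_normalizer_iff.1 ha w).1 hw, rfl⟩
      · rintro ⟨w, hw, hw'⟩
        have h4 : a⁻¹ * w * a ∈ R := by
          have h5 := (mem_normalizer_iff.1 ha (a⁻¹ * w * a)).2 (by
            have h6 : a * (a⁻¹ * w * a) * a⁻¹ = w := by group
            rw [h6]
            exact hw)
          exact h5
        refine ⟨_, h4, ?_⟩
        have h7 : (w : G) = (a : G) * z * (a : G)⁻¹ := hw'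
        show ((a⁻¹ * w * a : H) : G) = z
        push_cast
        rw [h7]
        group
    rw [← card_map_of_injective H.subtype_injective]
    exact card_dvd_of_le h3
  · refine dvd_trans ?_ (dvd_of_eq hC)
    have h3 : (centralizer (R : Set H)).map H.subtype ≤ centralizer (R' : Set G) := by
      rintro _ ⟨a, ha, rfl⟩
      rw [mem_centralizer_iff]
      rintro _ ⟨w, hw, rfl⟩
      exact congrArg Subtype.val ((mem_centralizer_iff.1 ha) w hw)
    rw [← card_map_of_injective H.subtype_injective]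
    exact card_dvd_of_le h3

theorem no_264 {H : Subgroup G} (hH : Nat.card H = 264) : False := by
  haveI := fin
  have hp : Nat.Prime 11 := by norm_num
  haveI := Fact.mk hp
  obtain ⟨x, hx⟩ := exists_prime_orderOf_dvd_card' (G := H) 11 (by rw [hH]; norm_num)
  have hRc : Nat.card (zpowers x) = 11 := by rw [Nat.card_zpowers, hx]
  obtain ⟨hN, hC⟩ := sub_bounds hRc
  obtain ⟨k, c, s, ν, t, e1, e2, e3, e4, e5, e6, e7, e8, e9, e10⟩ :=
    struct hp (by rw [hH]; norm_num) (zpowers x) hRc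
  rw [hH] at e1
  have hc1 : c = 1 := by
    rcases (Nat.dvd_prime hp).1 (e3.trans hC) with h | h
    · exact h
    · exact absurd (h ▸ e4) e5
  have hk : k ∣ 264 := by rw [e1]; exact ⟨s * t, by ring⟩
  have hk0 : k ≠ 0 := by rintro rfl; simp at e1
  -- `k` is odd and prime to 3
  have hpk : ∀ p : ℕ, p.Prime → p ^ k.factorization p ≡ 1 [MOD 11] := by
    intro p hpp
    obtain ⟨j, hj, hjm⟩ := e9 p hpp
    rw [hc1] at hj
    have hj1 : p ^ j = 1 := Nat.dvd_one.1 hj
    rw [hj1] at hjm
    exact hjm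
  have h2 : k.factorization 2 = 0 := by
    have h3 : k.factorization 2 ≤ 3 := by
      by_contra hlt
      push Not at hlt
      have h4 : 2 ^ 4 ∣ k := (Nat.prime_two.pow_dvd_iff_le_factorization hk0).2 hlt
      exact absurd (h4.trans hk) (by norm_num)
    have h5 := hpk 2 Nat.prime_two
    generalize k.factorization 2 = a at h3 h5
    interval_cases a
    · rfl
    all_goals exact absurd h5 (by decide)
  have h3 : k.factorization 3 = 0 := by
    have h3 : k.factorization 3 ≤ 1 := by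
      by_contra hlt
      push Not at hlt
      have h4 : 3 ^ 2 ∣ k := (Nat.prime_three.pow_dvd_iff_le_factorization hk0).2 hlt
      exact absurd (h4.trans hk) (by norm_num)
    have h5 := hpk 3 Nat.prime_three
    generalize k.factorization 3 = a at h3 h5
    interval_cases a
    · rfl
    all_goals exact absurd h5 (by decide)
  have hk1 : k = 1 := by
    have h4 : ¬ 2 ∣ k := fun h => by
      have := (Nat.prime_two.dvd_iff_one_le_factorization hk0).1 h
      omega
    have h5 : ¬ 3 ∣ k := fun h => by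
      have := (Nat.prime_three.dvd_iff_one_le_factorization hk0).1 h
      omega
    have h6 : k.Coprime (2 ^ 3 * 3 * 11) := by
      refine Nat.Coprime.mul_right (Nat.Coprime.mul_right (Nat.Coprime.pow_right 3 ?_) ?_) ?_
      · exact ((Nat.Prime.coprime_iff_not_dvd Nat.prime_two).mpr h4).symm
      · exact ((Nat.Prime.coprime_iff_not_dvd Nat.prime_three).mpr h5).symm
      · exact ((Nat.Prime.coprime_iff_not_dvd hp).mpr e5).symm
    exact Nat.eq_one_of_dvd_coprimes h6 dvd_rfl (by norm_num; exact hk)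
  rw [hk1, one_mul] at e1
  have hs : s ∣ 264 := ⟨t, e1⟩
  rcases e10 with h | ⟨T, i1, i2, hT, hna, hTc⟩
  · -- s = 11
    rw [h] at e1
    have ht : t = 24 := by omega
    rw [hc1, ht] at e2
    rw [e2] at hN
    have h5 : 24 ∣ 110 := (Dvd.intro_left _ rfl).trans hN
    exact absurd h5 (by norm_num)
  · have h1 := S0496.result (G := T) (fun h => hna fun a b => h.is_comm.comm a b)
      (by rw [hTc]; exact (Nat.le_of_dvd (by norm_num) hs).trans (by norm_num))
    rw [hTc] at h1
    rcases h1 with h1 | h1 | h1 | h1 | h1 | h1 <;> (rw [h1] at hs; exact absurd hs (by norm_num))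

/-! ### order 24 -/

abbrev CA := Multiplicative (ZMod 2) × alternatingGroup (Fin 5)

/-- `2 × S3` -/
def X0 : Subgroup CA := (MulAction.stabilizer (Equiv.Perm (Fin 5)) ({3, 4} : Finset (Fin 5))).comap
  ((alternatingGroup (Fin 5)).subtype.comp (MonoidHom.snd (Multiplicative (ZMod 2)) (alternatingGroup (Fin 5))))

/-- `2 × A4` -/
def Y0 : Subgroup CA := (MulAction.stabilizer (Equiv.Perm (Fin 5)) (4 : Fin 5)).comap
  ((alternatingGroup (Fin 5)).subtype.comp (MonoidHom.snd (Multiplicative (ZMod 2)) (alternatingGroup (Fin 5))))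

theorem mem_X0 {p : CA} : p ∈ X0 ↔ (p.2 : Equiv.Perm (Fin 5)) • ({3, 4} : Finset (Fin 5)) = {3, 4} := Iff.rfl

theorem mem_Y0 {p : CA} : p ∈ Y0 ↔ (p.2 : Equiv.Perm (Fin 5)) 4 = 4 := Iff.rfl

theorem card_X0 : Nat.card X0 = 12 := by
  have e : X0 ≃ {p : CA // (p.2 : Equiv.Perm (Fin 5)) • ({3, 4} : Finset (Fin 5)) = {3, 4}} := Equiv.refl _
  rw [Nat.card_congr e, Nat.card_eq_fintype_card]
  decide +kernel

theorem card_Y0 : Nat.card Y0 = 24 := by
  have e : Y0 ≃ {p : CA // (p.2 : Equiv.Perm (Fin 5)) 4 = 4} := Equiv.refl _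
  rw [Nat.card_congr e, Nat.card_eq_fintype_card]
  decide +kernel

/-- the 3-cycle `(0 1 2)` -/
def a0 : CA := (1, ⟨c[0, 1, 2], by rw [Equiv.Perm.mem_alternatingGroup]; decide +kernel⟩)

/-- the 3-cycle `(1 2 3)` -/
def b0 : CA := (1, ⟨c[1, 2, 3], by rw [Equiv.Perm.mem_alternatingGroup]; decide +kernel⟩)

theorem a0_X : a0 ∈ X0 := by rw [mem_X0]; decide +kernel
theorem a0_Y : a0 ∈ Y0 := by rw [mem_Y0]; decide +kernel
theorem b0_Y : b0 ∈ Y0 := by rw [mem_Y0]; decide +kernel
theorem a0_cube : a0 ^ 3 = 1 := by decide +kernel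
theorem b0_cube : b0 ^ 3 = 1 := by decide +kernel
theorem a0_ne : a0 ≠ 1 := by decide +kernel
theorem ab_sq : (a0 * b0) ^ 2 = 1 := by decide +kernel
theorem ab_ne : a0 * b0 ≠ 1 := by decide +kernel

theorem X0_norm : ∀ p : CA, (p.2 : Equiv.Perm (Fin 5)) • ({3, 4} : Finset (Fin 5)) = {3, 4} →
    p * a0 * p⁻¹ = a0 ∨ p * a0 * p⁻¹ = a0 ^ 2 := by decide +kernel

theorem three_pow (n : ℕ) : Nat.Coprime 2 (3 ^ n) := Nat.Coprime.pow_right n (by norm_num)

/-- **no Hall π-subgroup of order 24** -/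
theorem no_24 {π : Set ℕ} (h2 : 2 ∈ π) (h3 : 3 ∈ π) (hD : DC π G) {H : Subgroup G} (hH : IsPiHall π H)
    (hc : Nat.card H = 24) : False := by
  haveI := fin
  haveI := Fact.mk Nat.prime_three
  haveI := Fact.mk Nat.prime_two
  obtain ⟨x, hx⟩ := exists_prime_orderOf_dvd_card' (G := G) 2 (by rw [cardG]; norm_num)
  obtain ⟨e⟩ := local'.cent x hx
  set φ : CA →* G := (centralizer ({x} : Set G)).subtype.comp e.symm.toMonoidHom with hφ
  have hφi : Function.Injective φ := by
    intro u v huv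
    exact e.symm.injective (Subtype.ext huv)
  have hXc : Nat.card (X0.map φ) = 12 := by rw [card_map_of_injective hφi, card_X0]
  have hYc : Nat.card (Y0.map φ) = 24 := by rw [card_map_of_injective hφi, card_Y0]
  have hXpi : IsPiSubgroup π (X0.map φ) := isPi_of_card (a := 2) (b := 1) h2 h3 hXc (by norm_num)
  have hYpi : IsPiSubgroup π (Y0.map φ) := isPi_of_card (a := 3) (b := 1) h2 h3 hYc (by norm_num)
  -- the Sylow 3-subgroup
  have ho : orderOf a0 = 3 := orderOf_eq_prime a0_cube a0_ne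
  have hoφ : orderOf (φ a0) = 3 := by rw [orderOf_injective φ hφi, ho]
  have hRc : Nat.card (zpowers (φ a0)) = 3 ^ (Nat.card G).factorization 3 := by
    rw [Nat.card_zpowers, hoφ, cardG]
    have : (175560 : ℕ).factorization 3 = 1 := by
      refine le_antisymm ?_ ((Nat.prime_three.dvd_iff_one_le_factorization (by norm_num)).1 (by norm_num))
      by_contra hlt
      push Not at hlt
      exact absurd ((Nat.prime_three.pow_dvd_iff_le_factorization (by norm_num)).2 hlt) (by norm_num)
    rw [this, pow_one]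
  set R : Sylow 3 G := Sylow.ofCard (zpowers (φ a0)) hRc with hR
  have hRe : (R : Subgroup G) = zpowers (φ a0) := Sylow.coe_ofCard _ _
  have hRX : (R : Subgroup G) ≤ X0.map φ := by
    rw [hRe, zpowers_le]
    exact ⟨a0, a0_X, rfl⟩
  have hXR : X0.map φ ≤ normalizer ((R : Subgroup G) : Set G) := by
    rintro _ ⟨u, hu, rfl⟩
    rw [hRe]
    have key : ∀ u : CA, u ∈ X0 → ∀ z ∈ zpowers (φ a0), φ u * z * (φ u)⁻¹ ∈ zpowers (φ a0) := by
      rintro u hu z ⟨n, rfl⟩
      have h1 : φ u * φ a0 * (φ u)⁻¹ ∈ zpowers (φ a0) := by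
        rw [← map_mul, ← map_inv, ← map_mul]
        rcases X0_norm u (mem_X0.1 hu) with h | h
        · rw [h]; exact mem_zpowers _
        · rw [h, map_pow]; exact pow_mem (mem_zpowers _) 2
      have h2 : φ u * (φ a0) ^ n * (φ u)⁻¹ = (φ u * φ a0 * (φ u)⁻¹) ^ n := by rw [conj_zpow]
      show φ u * (φ a0) ^ n * (φ u)⁻¹ ∈ _
      rw [h2]
      exact zpow_mem h1 n
    rw [mem_normalizer_iff]
    intro z
    constructor
    · exact key u hu z
    · intro hz
      have := key u⁻¹ (inv_mem hu) _ hz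
      rw [map_inv] at this
      have h5 : (φ u)⁻¹ * (φ u * z * (φ u)⁻¹) * ((φ u)⁻¹)⁻¹ = z := by group
      rwa [h5] at this
  refine false_of_mul hD hXpi R hRX hXR hH ?_ hYpi ⟨a0, a0_Y, rfl⟩ ⟨b0, b0_Y, rfl⟩
    ⟨1, by rw [pow_one, ← map_pow, a0_cube, map_one]⟩ ⟨1, by rw [pow_one, ← map_pow, b0_cube, map_one]⟩ ?_
  · rw [hXc, hc]
    intro d hd hd1
    have h5 : d ∣ 2 := by
      have : 12 * d ∣ 12 * 2 := by rw [mul_comm 12 d]; exact hd
      exact Nat.dvd_of_mul_dvd_mul_left (by norm_num) this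
    rcases (Nat.dvd_prime Nat.prime_two).1 h5 with h | h
    · exact h
    · rw [h] at hd1; exact absurd hd1 (by decide)
  · rintro ⟨k, hk⟩
    rw [← map_mul, ← map_pow] at hk
    have h5 : (a0 * b0) ^ 3 ^ k = 1 := hφi (by rw [hk, map_one])
    have h6 : orderOf (a0 * b0) ∣ 1 := by
      rw [← three_pow k]
      exact Nat.dvd_gcd (orderOf_dvd_of_pow_eq_one ab_sq) (orderOf_dvd_of_pow_eq_one h5)
    exact ab_ne (orderOf_eq_one_iff.mp (Nat.dvd_one.mp h6))

theorem pi_of_mem {π : Set ℕ} {m : ℕ} {L : List ℕ} (hm : ∀ p : ℕ, p.Prime → p ∣ m → p ∈ L) (hL : ∀ p ∈ L, p ∈ π) :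
    ∀ p : ℕ, p.Prime → p ∣ m → p ∈ π := fun p hp hd => hL p (hm p hp hd)

theorem model {π : Set ℕ} (h2 : 2 ∈ π) (h3 : 3 ∈ π) (hD : DC π G) : PiGrp π G := by
  haveI := fin
  obtain ⟨H, hH⟩ := hD.exists_hall
  have hi := mem_div (index_dvd h2 h3 hH)
  by_cases h1 : H.index = 1
  · intro p hp hd
    exact hH.1 p hp (by rw [index_eq_one.1 h1, card_top]; exact hd)
  exfalso
  have hp5 : Nat.Prime 5 := by norm_num
  have hp7 : Nat.Prime 7 := by norm_num
  have hp11 : Nat.Prime 11 := by norm_num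
  have hp19 : Nat.Prime 19 := by norm_num
  have hcm := H.card_mul_index
  rw [cardG] at hcm
  -- primes of the index
  have hnd : ∀ p : ℕ, p.Prime → p ∈ π → ¬ p ∣ H.index := hH.2
  have hin : ∀ p : ℕ, p.Prime → p ∣ 175560 → ¬ p ∣ H.index → p ∈ π := by
    intro p hp hd hn
    rw [← hcm] at hd
    rcases (hp.dvd_mul).1 hd with h | h
    · exact hH.1 p hp h
    · exact absurd h hn
  by_cases h7 : 7 ∈ π
  · have hs := sieve_exact hD (r := 7) (m := 42) hp7 (by norm_num) (by norm_num) (fun R hR => (cn7 hR).2) (by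
      intro p hp hd
      have : (42 : ℕ) = 2 * 3 * 7 := by norm_num
      rw [this, hp.dvd_mul, hp.dvd_mul] at hd
      rcases hd with (hd | hd) | hd
      · rw [(Nat.prime_dvd_prime_iff_eq hp Nat.prime_two).1 hd]; exact h2
      · rw [(Nat.prime_dvd_prime_iff_eq hp Nat.prime_three).1 hd]; exact h3
      · rw [(Nat.prime_dvd_prime_iff_eq hp hp7).1 hd]; exact h7) hH
    simp only [List.mem_cons, List.not_mem_nil, or_false] at hi
    rcases hi with h | h | h | h | h | h | h | h | h | h | h | h | h | h | h | h <;> rw [h] at hs <;>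
      first | exact h1 h | exact absurd hs (by decide)
  have d7 : 7 ∣ H.index := by by_contra hn; exact h7 (hin 7 hp7 (by norm_num) hn)
  by_cases h5 : 5 ∈ π
  · have hs := sieve_exact hD (r := 5) (m := 60) hp5 (by norm_num) (by norm_num) (fun R hR => (cn5 hR).2) (by
      intro p hp hd
      have : (60 : ℕ) = 2 ^ 2 * 3 * 5 := by norm_num
      rw [this, hp.dvd_mul, hp.dvd_mul] at hd
      rcases hd with (hd | hd) | hd
      · rw [(Nat.prime_dvd_prime_iff_eq hp Nat.prime_two).1 (hp.dvd_of_dvd_pow hd)]; exact h2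
      · rw [(Nat.prime_dvd_prime_iff_eq hp Nat.prime_three).1 hd]; exact h3
      · rw [(Nat.prime_dvd_prime_iff_eq hp hp5).1 hd]; exact h5) hH
    simp only [List.mem_cons, List.not_mem_nil, or_false] at hi
    rcases hi with h | h | h | h | h | h | h | h | h | h | h | h | h | h | h | h <;> rw [h] at hs d7 <;>
      first | exact h1 h | exact absurd hs (by decide) | exact absurd d7 (by decide)
  have d5 : 5 ∣ H.index := by by_contra hn; exact h5 (hin 5 hp5 (by norm_num) hn)
  by_cases h19 : 19 ∈ π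
  · have hs := sieve_exact hD (r := 19) (m := 114) hp19 (by norm_num) (by norm_num) (fun R hR => (cn19 hR).2) (by
      intro p hp hd
      have : (114 : ℕ) = 2 * 3 * 19 := by norm_num
      rw [this, hp.dvd_mul, hp.dvd_mul] at hd
      rcases hd with (hd | hd) | hd
      · rw [(Nat.prime_dvd_prime_iff_eq hp Nat.prime_two).1 hd]; exact h2
      · rw [(Nat.prime_dvd_prime_iff_eq hp Nat.prime_three).1 hd]; exact h3
      · rw [(Nat.prime_dvd_prime_iff_eq hp hp19).1 hd]; exact h19) hH
    simp only [List.mem_cons, List.not_mem_nil, or_false] at hi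
    rcases hi with h | h | h | h | h | h | h | h | h | h | h | h | h | h | h | h <;> rw [h] at hs d7 d5 <;>
      first | exact h1 h | exact absurd hs (by decide) | exact absurd d7 (by decide) | exact absurd d5 (by decide)
  have d19 : 19 ∣ H.index := by by_contra hn; exact h19 (hin 19 hp19 (by norm_num) hn)
  simp only [List.mem_cons, List.not_mem_nil, or_false] at hi
  rcases hi with h | h | h | h | h | h | h | h | h | h | h | h | h | h | h | h <;> rw [h] at d5 d7 d19 <;>
    first
      | exact absurd d7 (by decide)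
      | exact absurd d5 (by decide)
      | exact absurd d19 (by decide)
      | skip
  · rw [h] at hcm
    exact no_264 (H := H) (by omega)
  · rw [h] at hcm
    exact no_24 h2 h3 hD hH (by omega)

end Cfsg.Agent.H543.PiBS.JOne

namespace Cfsg.Agent.H543.PiBS

open Cfsg

/-- **`J1`, `2, 3 ∈ π`** -/
theorem row_J1 {S : Type*} [Group S] [Finite S] (h : Spor.IsoJ1 S) {π : Set ℕ} (h2 : 2 ∈ π) (h3 : 3 ∈ π)
    (hD : DC π S) : PiGrp π S := by
  obtain ⟨e⟩ := h
  have h1 := JOne.model h2 h3 (hD.congr e)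
  intro p hp hd
  exact h1 p hp (by rw [← Nat.card_congr e.toEquiv]; exact hd)

end Cfsg.Agent.H543.PiBS
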