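import Cfsg.Agent.H543.PiBS.Gen

/-!
# Two arithmetical criteria for `DC` (S3876, sporadic rows)

* `hall_normal` : if a π-subgroup `X` normalises a Sylow `p`-subgroup `R ≤ X` of `S` (`p ∈ π`) and no divisor `≠ 1` of
  `|H : X|` is `1 mod p`, then the Sylow `p`-subgroup of a Hall π-subgroup `H` is normal;
* `false_of_mul` : then no π-subgroup contains two `p`-elements whose product is not a `p`-element.
-/

set_option autoImplicit false

namespace Cfsg.Agent.H543.PiBS

open Subgroup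

universe u

variable {S : Type u} [Group S] [Finite S] {π : Set ℕ}

/-- the number of Sylow `p`-subgroups of a group divides the index of a subgroup normalising one of them -/
theorem card_sylow_dvd {p : ℕ} [Fact p.Prime] {X : Subgroup S} (P : Sylow p S)
    (hX : X ≤ normalizer ((P : Subgroup S) : Set S)) : Nat.card (Sylow p S) ∣ X.index := by
  rw [P.card_eq_index_normalizer]
  exact Subgroup.index_dvd_of_le hX

/-- **Criterion.** -/
theorem hall_normal (hD : DC π S) {p : ℕ} [Fact p.Prime] {X H : Subgroup S} (hX : IsPiSubgroup π X)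
    (R : Sylow p S) (hRX : (R : Subgroup S) ≤ X) (hXR : X ≤ normalizer ((R : Subgroup S) : Set S))
    (hH : IsPiHall π H) (hnum : ∀ d : ℕ, d * Nat.card X ∣ Nat.card H → d % p = 1 % p → d = 1) :
    ∃ Q : Subgroup S, IsPGroup p Q ∧ ∀ x ∈ H, (∃ k : ℕ, x ^ p ^ k = 1) → x ∈ Q := by
  obtain ⟨g, hg⟩ := hD.conj_le hH hX
  set X' := X.map (MulAut.conj g).toMonoidHom with hX'
  set R' : Sylow p S := g • R with hR'
  have hR'c : (R' : Subgroup S) = (R : Subgroup S).map (MulAut.conj g).toMonoidHom := by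
    rw [hR', Sylow.coe_subgroup_smul]; rfl
  have hR'X : (R' : Subgroup S) ≤ X' := by rw [hR'c]; exact Subgroup.map_mono hRX
  have hR'H : (R' : Subgroup S) ≤ H := hR'X.trans hg
  have hX'R : X' ≤ normalizer ((R' : Subgroup S) : Set S) := by
    rintro _ ⟨x, hx, rfl⟩
    refine Sylow.smul_eq_iff_mem_normalizer.mp ?_
    have h1 : x • R = R := Sylow.smul_eq_iff_mem_normalizer.mpr (hXR hx)
    show (g * x * g⁻¹) • g • R = g • R
    rw [smul_smul, inv_mul_cancel_right, mul_smul, h1]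
  -- the Sylow subgroup of H
  set P : Sylow p H := R'.subtype hR'H with hP
  have hPn : X'.subgroupOf H ≤ normalizer ((P : Subgroup H) : Set H) := by
    intro x hx
    refine Sylow.smul_eq_iff_mem_normalizer.mp ?_
    have h2 : ((x : S) • R' : Sylow p S) = R' := Sylow.smul_eq_iff_mem_normalizer.mpr (hX'R hx)
    rw [hP, Sylow.smul_subtype]
    apply Sylow.ext
    show (((x : S) • R' : Sylow p S) : Subgroup S).subgroupOf H = (R' : Subgroup S).subgroupOf H
    rw [h2]
  have hdvd := card_sylow_dvd P hPn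
  have hcardX : Nat.card (X'.subgroupOf H) = Nat.card X := by
    rw [Nat.card_congr (Subgroup.subgroupOfEquivOfLe hg).toEquiv, hX', card_map_conj]
  have hmul : (X'.subgroupOf H).index * Nat.card X = Nat.card H := by
    rw [← hcardX, mul_comm]; exact Subgroup.card_mul_index _
  have hone : Nat.card (Sylow p H) = 1 := by
    apply hnum
    · rw [← hmul]; exact Nat.mul_dvd_mul_right hdvd _
    · exact card_sylow_modEq_one p H
  have hnorm : (P : Subgroup H).Normal := by
    have : Subsingleton (Sylow p H) := (Nat.card_eq_one_iff_unique.mp hone).1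
    exact P.normal_of_subsingleton
  refine ⟨R', R'.isPGroup', ?_⟩
  rintro x hx ⟨k, hk⟩
  have hz : IsPGroup p (zpowers (⟨x, hx⟩ : H)) := by
    rw [IsPGroup.iff_card]
    have : orderOf (⟨x, hx⟩ : H) ∣ p ^ k := orderOf_dvd_of_pow_eq_one (Subtype.ext hk)
    obtain ⟨j, _, hj⟩ := (Nat.dvd_prime_pow Fact.out).mp this
    exact ⟨j, by rw [Nat.card_zpowers, hj]⟩
  obtain ⟨Q, hQ⟩ := hz.exists_le_sylow
  have hQP : Q = P := by
    have : Subsingleton (Sylow p H) := (Nat.card_eq_one_iff_unique.mp hone).1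
    exact Subsingleton.elim _ _
  rw [hQP] at hQ
  have := hQ (mem_zpowers (⟨x, hx⟩ : H))
  exact this

/-- **No π-subgroup contains two `p`-elements whose product is not a `p`-element.** -/
theorem false_of_mul (hD : DC π S) {p : ℕ} [Fact p.Prime] {X H Y : Subgroup S} (hX : IsPiSubgroup π X)
    (R : Sylow p S) (hRX : (R : Subgroup S) ≤ X) (hXR : X ≤ normalizer ((R : Subgroup S) : Set S))
    (hH : IsPiHall π H) (hnum : ∀ d : ℕ, d * Nat.card X ∣ Nat.card H → d % p = 1 % p → d = 1)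
    (hY : IsPiSubgroup π Y) {x y : S} (hx : x ∈ Y) (hy : y ∈ Y) (hxp : ∃ k : ℕ, x ^ p ^ k = 1)
    (hyp : ∃ k : ℕ, y ^ p ^ k = 1) (hxy : ¬ ∃ k : ℕ, (x * y) ^ p ^ k = 1) : False := by
  obtain ⟨Q, hQ, hmem⟩ := hall_normal hD hX R hRX hXR hH hnum
  obtain ⟨g, hg⟩ := hD.conj_le hH hY
  have hconj : ∀ z : S, (∃ k : ℕ, z ^ p ^ k = 1) → ∃ k : ℕ, (g * z * g⁻¹) ^ p ^ k = 1 := by
    rintro z ⟨k, hk⟩
    exact ⟨k, by rw [conj_pow, hk, mul_one, mul_inv_cancel]⟩
  have h1 : g * x * g⁻¹ ∈ Q := hmem _ (hg ⟨x, hx, rfl⟩) (hconj x hxp)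
  have h2 : g * y * g⁻¹ ∈ Q := hmem _ (hg ⟨y, hy, rfl⟩) (hconj y hyp)
  have h3 : g * (x * y) * g⁻¹ ∈ Q := by
    have : g * (x * y) * g⁻¹ = (g * x * g⁻¹) * (g * y * g⁻¹) := by group
    rw [this]; exact Q.mul_mem h1 h2
  obtain ⟨k, hk⟩ := hQ ⟨_, h3⟩
  apply hxy
  refine ⟨k, ?_⟩
  have hk' : (g * (x * y) * g⁻¹) ^ p ^ k = 1 := congrArg Subtype.val hk
  rw [conj_pow] at hk'
  have : (x * y) ^ p ^ k = g⁻¹ * (g * (x * y) ^ p ^ k * g⁻¹) * g := by group
  rw [this, hk']; group

end Cfsg.Agent.H543.PiBS
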