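import Cfsg.Agent.H469.PiBS.Def
import Cfsg.Agent.H543.PiBS.Gen

/-!
# From a `DC` row to a `Row` of S3876 when `|Aut S : Inn S| ≤ 2`
-/

set_option autoImplicit false

namespace Cfsg.Agent.H543.PiBS

open Cfsg Cfsg.Agent.H469.PiBS

universe u

theorem dc_of_hyp {π : Set ℕ} {S : Type u} [Group S] [Finite S] (h2 : 2 ∈ π)
    (hout : (MulAut.conj : S →* MulAut S).range.index ≤ 2) {A : Subgroup (MulAut S)} {x : MulAut S} {l : ℕ}
    (h : Hyp π A x l) : DC π S :=
  DC.of_outer hout h.dom (fun H K hH hK => let ⟨a, _, ha⟩ := h.trans H K hH hK; ⟨a, ha.symm⟩)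
    (h.cnt 2 Nat.prime_two h2)

/-- **A `DC` row gives a row of S3876.** -/
theorem row_of_dc {π : Set ℕ} {S : Type u} [Group S] [Finite S] (h2 : 2 ∈ π)
    (hout : (MulAut.conj : S →* MulAut S).range.index ≤ 2)
    (hrow : DC π S → Cfsg.Agent.H543.PiBS.PiGrp π S) : Row π S :=
  fun _ _ _ h => hrow (dc_of_hyp h2 hout h)

end Cfsg.Agent.H543.PiBS
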